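/-
A two-sided ping-pong argument: if `u` is an abelian group of transformations sending `B` into `A` and
`l` sends `A` into `B`, then the commutators `⁅u (d i), l⁆` freely generate a free group, with an explicit
vector witnessing it. Polynomial degree bookkeeping turns this into non-laws for groups over large finite fields.
-/
import Mathlib

set_option autoImplicit false

namespace Cfsg.Agent.WordLaws

open Multiplicative Polynomial
open scoped commutatorElement

section Engine

variable {G V D : Type*} [Group G] [AddCommGroup D]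
variable (act : G →* Equiv.Perm V) (u : Multiplicative D →* G) (l : G) (B : Set V) (d : ℕ → D)

/-- The ping-pong set attached to the letter `(i, b)`. -/
def letterSet : ℕ × Bool → Set V
  | (i, true) => act (u (ofAdd (d i))) '' B
  | (i, false) => act l '' (act (u (ofAdd (d i))) '' B)

theorem act_mul_apply (g h : G) (v : V) : act (g * h) v = act g (act h v) := by
  rw [map_mul]; rfl

theorem pingpong (A : Set V) (v0 : V)
    (huB : ∀ x : D, x ≠ 0 → ∀ v, (v ∈ B ∨ v = v0) → act (u (ofAdd x)) v ∈ A)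
    (hlA : ∀ v, (v ∈ A ∨ v = v0) → act l v ∈ B ∧ act l⁻¹ v ∈ B)
    (hd0 : ∀ i, d i ≠ 0) (hdinj : Function.Injective d)
    (L : List (ℕ × Bool)) (hL : FreeGroup.IsReduced L) (hne : L ≠ []) :
    act (FreeGroup.lift (fun i => ⁅u (ofAdd (d i)), l⁆) (FreeGroup.mk L)) v0 ∈
      letterSet act u l B d (L.head hne) := by
  induction L with
  | nil => exact absurd rfl hne
  | cons p L ih =>
    obtain ⟨i, b⟩ := p
    set f := FreeGroup.lift (fun i => ⁅u (ofAdd (d i)), l⁆) with hf
    have hcons : f (FreeGroup.mk ((i, b) :: L))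
        = (cond b ⁅u (ofAdd (d i)), l⁆ ⁅u (ofAdd (d i)), l⁆⁻¹) * f (FreeGroup.mk L) := by
      simp [hf, FreeGroup.lift_mk]
    rw [hcons, act_mul_apply]
    set v := act (f (FreeGroup.mk L)) v0 with hv
    have hv' : v = v0 ∨ ∃ j b', (j = i → b' = b) ∧ v ∈ letterSet act u l B d (j, b') := by
      cases L with
      | nil =>
        left; rw [hv]; simp [hf, FreeGroup.lift_mk]
      | cons q L =>
        obtain ⟨j, b'⟩ := q
        obtain ⟨h1, h2⟩ := FreeGroup.isReduced_cons_cons.1 hL
        exact Or.inr ⟨j, b', fun h => (h1 h.symm).symm, ih h2 (by simp)⟩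
    have hneg : (u (ofAdd (d i)))⁻¹ = u (ofAdd (-d i)) := by rw [← map_inv]; rfl
    have hdiff : ∀ j, j ≠ i → ∀ w ∈ B,
        act (u (ofAdd (-d i))) (act (u (ofAdd (d j))) w) ∈ A := by
      intro j hj w hw
      rw [← act_mul_apply, ← map_mul, ← ofAdd_add]
      refine huB _ ?_ w (Or.inl hw)
      intro h
      exact hj (hdinj (neg_add_eq_zero.1 h).symm)
    have hSA : ∀ j, ∀ w ∈ letterSet act u l B d (j, true), w ∈ A := by
      rintro j _ ⟨w, hw, rfl⟩; exact huB _ (hd0 j) w (Or.inl hw)
    have hSB : ∀ j, ∀ w ∈ letterSet act u l B d (j, false), w ∈ B := by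
      rintro j _ ⟨_, ⟨w, hw, rfl⟩, rfl⟩
      exact (hlA _ (Or.inl (huB _ (hd0 j) w (Or.inl hw)))).1
    have hnd : -d i ≠ 0 := neg_ne_zero.2 (hd0 i)
    cases b with
    | true =>
      have hgood : act (u (ofAdd (-d i))) (act l⁻¹ v) ∈ A := by
        rcases hv' with h | ⟨j, b', hjb, h⟩
        · exact huB _ hnd _ (Or.inl (hlA _ (Or.inr h)).2)
        · cases b' with
          | true => exact huB _ hnd _ (Or.inl (hlA _ (Or.inl (hSA j v h))).2)
          | false =>
            have hji : j ≠ i := fun hji => absurd (hjb hji) (by simp)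
            obtain ⟨_, ⟨w, hw, rfl⟩, hvw⟩ := h
            rw [← hvw, ← act_mul_apply act l⁻¹ l, inv_mul_cancel, map_one]
            exact hdiff j hji w hw
      refine ⟨act l (act (u (ofAdd (-d i))) (act l⁻¹ v)), (hlA _ (Or.inl hgood)).1, ?_⟩
      simp only [cond_true, commutatorElement_def, hneg]
      simp only [act_mul_apply]
    | false =>
      have hgood : act (u (ofAdd (-d i))) v ∈ A := by
        rcases hv' with h | ⟨j, b', hjb, h⟩
        · exact huB _ hnd _ (Or.inr h)
        · cases b' with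
          | false => exact huB _ hnd _ (Or.inl (hSB j v h))
          | true =>
            have hji : j ≠ i := fun hji => absurd (hjb hji) (by simp)
            obtain ⟨w, hw, hvw⟩ := h
            rw [← hvw]
            exact hdiff j hji w hw
      refine ⟨_, ⟨act l⁻¹ (act (u (ofAdd (-d i))) v), (hlA _ (Or.inl hgood)).2, rfl⟩, ?_⟩
      simp only [cond_false, commutatorElement_inv]
      simp only [commutatorElement_def, hneg]
      simp only [act_mul_apply]

end Engine

section Poly

/-- Coordinate `k` carries strictly the largest degree. -/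
def Dom {R : Type*} [Semiring R] {n : ℕ} (v : Fin n → R[X]) (k : Fin n) : Prop :=
  ∀ j, j ≠ k → (v j).natDegree < (v k).natDegree

/-- Coordinate `k` is non-zero and carries the largest degree, not necessarily strictly. -/
def LeadLe {R : Type*} [Semiring R] {n : ℕ} (v : Fin n → R[X]) (k : Fin n) : Prop :=
  v k ≠ 0 ∧ ∀ j, (v j).natDegree ≤ (v k).natDegree

theorem Dom.leadLe {R : Type*} [Semiring R] {n : ℕ} {v : Fin n → R[X]} {k j : Fin n} (hjk : j ≠ k)
    (h : Dom v k) : LeadLe v k := by
  refine ⟨fun h0 => ?_, fun i => ?_⟩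
  · have := h j hjk; simp [h0] at this
  · rcases eq_or_ne i k with rfl | hik
    · exact le_rfl
    · exact (h i hik).le

/-- All coordinates have degree at most `M`. -/
def DegLe {R : Type*} [Semiring R] {n : ℕ} (v : Fin n → R[X]) (M : ℕ) : Prop :=
  ∀ j, (v j).natDegree ≤ M

/-- The action of an invertible matrix on column vectors, by permutations. -/
def mulVecPerm (n : ℕ) (R : Type*) [CommRing R] : GL (Fin n) R →* Equiv.Perm (Fin n → R) where
  toFun g :=
    { toFun := fun v => (g : Matrix (Fin n) (Fin n) R).mulVec v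
      invFun := fun v => ((g⁻¹ : GL (Fin n) R) : Matrix (Fin n) (Fin n) R).mulVec v
      left_inv := fun v => by simp [Matrix.mulVec_mulVec, ← Units.val_mul]
      right_inv := fun v => by simp [Matrix.mulVec_mulVec, ← Units.val_mul] }
  map_one' := by ext v; simp
  map_mul' g h := by ext v; simp [Matrix.mulVec_mulVec]

theorem mulVecPerm_apply {n : ℕ} {R : Type*} [CommRing R] (g : GL (Fin n) R) (v : Fin n → R) :
    mulVecPerm n R g v = (g : Matrix (Fin n) (Fin n) R).mulVec v := rfl

/-- The free generators `⁅U (X^i), L 1⁆`. -/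
noncomputable def gen {F : Type*} [Field F] {n : ℕ}
    (U L : Multiplicative F[X] →* GL (Fin n) F[X]) (i : ℕ) : GL (Fin n) F[X] :=
  ⁅U (ofAdd (X ^ i)), L (ofAdd 1)⁆

/-- `U` raises degrees by at most `e * (deg + 1)`. -/
def Grows {F : Type*} [Field F] {n : ℕ} (U : Multiplicative F[X] →* GL (Fin n) F[X]) (e : ℕ) : Prop :=
  ∀ (x : F[X]) (v : Fin n → F[X]) (M : ℕ), DegLe v M →
    DegLe (mulVecPerm n F[X] (U (ofAdd x)) v) (M + e * (x.natDegree + 1))

theorem growth (w : FreeGroup ℕ) :
    ∃ C : ℕ, ∀ (F : Type*) [Field F] (n : ℕ) (U L : Multiplicative F[X] →* GL (Fin n) F[X]) (e : ℕ),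
      Grows U e → Grows L e → ∀ (v : Fin n → F[X]) (M : ℕ), DegLe v M →
        DegLe (mulVecPerm n F[X] (FreeGroup.lift (gen U L) w) v) (M + C * e) := by
  induction w using FreeGroup.induction_on with
  | C1 => exact ⟨0, fun F _ n U L e hU hL v M h => by simpa using h⟩
  | of i =>
    refine ⟨(i + 1) + 1 + ((i + 1) + 1), fun F _ n U L e hU hL v M h => ?_⟩
    have h1 : (U (ofAdd (X ^ i : F[X])))⁻¹ = U (ofAdd (-X ^ i)) := by rw [← map_inv]; rfl
    have h2 : (L (ofAdd (1 : F[X])))⁻¹ = L (ofAdd (-1)) := by rw [← map_inv]; rfl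
    simp only [FreeGroup.lift_apply_of, gen, commutatorElement_def, h1, h2, act_mul_apply]
    have a1 := hL (-1) v M h
    have a2 := hU (-X ^ i) _ _ a1
    have a3 := hL 1 _ _ a2
    have a4 := hU (X ^ i) _ _ a3
    intro j
    refine (a4 j).trans ?_
    simp only [natDegree_neg, natDegree_one, natDegree_X_pow]
    apply le_of_eq; ring
  | inv_of i _ =>
    refine ⟨(i + 1) + 1 + ((i + 1) + 1), fun F _ n U L e hU hL v M h => ?_⟩
    have h1 : (U (ofAdd (X ^ i : F[X])))⁻¹ = U (ofAdd (-X ^ i)) := by rw [← map_inv]; rfl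
    have h2 : (L (ofAdd (1 : F[X])))⁻¹ = L (ofAdd (-1)) := by rw [← map_inv]; rfl
    simp only [map_inv, FreeGroup.lift_apply_of, gen, commutatorElement_inv]
    simp only [commutatorElement_def, h1, h2, act_mul_apply]
    have a1 := hU (-X ^ i) v M h
    have a2 := hL (-1) _ _ a1
    have a3 := hU (X ^ i) _ _ a2
    have a4 := hL 1 _ _ a3
    intro j
    refine (a4 j).trans ?_
    simp only [natDegree_neg, natDegree_one, natDegree_X_pow]
    apply le_of_eq; ring
  | mul x y hx hy =>
    obtain ⟨Cx, hx⟩ := hx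
    obtain ⟨Cy, hy⟩ := hy
    refine ⟨Cx + Cy, fun F _ n U L e hU hL v M h => ?_⟩
    rw [map_mul, act_mul_apply]
    intro j
    refine (hx F n U L e hU hL _ _ (hy F n U L e hU hL v M h) j).trans ?_
    apply le_of_eq; ring

/-- A non-trivial word moves a constant vector to a vector with a non-constant coordinate of bounded degree. -/
theorem exists_coord (w : FreeGroup ℕ) (hw : w ≠ 1) :
    ∃ C : ℕ, ∀ (F : Type*) [Field F] (n : ℕ) (U L : Multiplicative F[X] →* GL (Fin n) F[X]) (e : ℕ)
      (lo hi : Fin n) (v0 : Fin n → F), lo ≠ hi → Grows U e → Grows L e →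
      (LeadLe (fun j => Polynomial.C (v0 j)) lo ∧ LeadLe (fun j => Polynomial.C (v0 j)) hi) →
      (∀ x : F[X], x ≠ 0 → ∀ v, LeadLe v lo → Dom (mulVecPerm n F[X] (U (ofAdd x)) v) hi) →
      (∀ x : F[X], x ≠ 0 → ∀ v, LeadLe v hi → Dom (mulVecPerm n F[X] (L (ofAdd x)) v) lo) →
      ∃ k, 0 < (mulVecPerm n F[X] (FreeGroup.lift (gen U L) w) (fun j => Polynomial.C (v0 j)) k).natDegree ∧
        (mulVecPerm n F[X] (FreeGroup.lift (gen U L) w) (fun j => Polynomial.C (v0 j)) k).natDegree ≤ C * e := by
  obtain ⟨C, hC⟩ := growth w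
  refine ⟨C, fun F _ n U L e lo hi v0 hne hU hL hv0 hUd hLd => ?_⟩
  set v : Fin n → F[X] := fun j => Polynomial.C (v0 j) with hv
  have hbound := hC F n U L e hU hL v 0 (fun j => by simp [hv])
  have hwne : w.toWord ≠ [] := fun h => hw (FreeGroup.toWord_eq_nil_iff.1 h)
  have key := pingpong (mulVecPerm n F[X]) U (L (ofAdd 1)) {x | Dom x lo} (fun i => X ^ i)
    {x | Dom x hi} v ?_ ?_ (fun i => pow_ne_zero _ X_ne_zero)
    (fun i j h => by simpa using congrArg natDegree h)
    w.toWord FreeGroup.isReduced_toWord hwne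
  · have hDA : ∀ (i : ℕ) (z : Fin n → F[X]), Dom z lo →
        Dom (mulVecPerm n F[X] (U (ofAdd (X ^ i))) z) hi :=
      fun i z hz => hUd _ (pow_ne_zero _ X_ne_zero) z (hz.leadLe hne.symm)
    rw [FreeGroup.mk_toWord] at key
    have key' : ∃ k, Dom (mulVecPerm n F[X] (FreeGroup.lift (gen U L) w) v) k ∧ (k = lo ∨ k = hi) := by
      generalize w.toWord.head hwne = p at key
      obtain ⟨i, b⟩ := p
      cases b with
      | true =>
        obtain ⟨z, hz, h⟩ := key
        exact ⟨hi, by unfold gen; rw [← h]; exact hDA i z hz, Or.inr rfl⟩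
      | false =>
        obtain ⟨_, ⟨z, hz, rfl⟩, h⟩ := key
        refine ⟨lo, ?_, Or.inl rfl⟩
        unfold gen; rw [← h]
        exact hLd _ one_ne_zero _ ((hDA i z hz).leadLe hne)
    obtain ⟨k, hk, hk'⟩ := key'
    refine ⟨k, ?_, by simpa using hbound k⟩
    rcases hk' with rfl | rfl
    · exact lt_of_le_of_lt (Nat.zero_le _) (hk hi hne.symm)
    · exact lt_of_le_of_lt (Nat.zero_le _) (hk lo hne)
  · intro x hx z hz
    rcases hz with hz | rfl
    · exact hUd x hx z (hz.leadLe hne.symm)
    · exact hUd x hx _ hv0.1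
  · intro z hz
    have hz' : LeadLe z hi := by
      rcases hz with hz | rfl
      · exact hz.leadLe hne
      · exact hv0.2
    have h2 : (L (ofAdd (1 : F[X])))⁻¹ = L (ofAdd (-1)) := by rw [← map_inv]; rfl
    exact ⟨hLd _ one_ne_zero z hz', by rw [h2]; exact hLd _ (neg_ne_zero.2 one_ne_zero) z hz'⟩

end Poly

end Cfsg.Agent.WordLaws
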