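/-
Non-laws in `SL₂` over large finite fields, in the strengthened form: the witnessing substitution consists of
commutators and the value of the word fails to commute with some commutator.
-/
import Cfsg.Agent.Lib.WordLaws.PingPong

set_option autoImplicit false

namespace Cfsg.Agent.WordLaws

open Multiplicative Polynomial
open scoped commutatorElement MatrixGroups

section Ring

variable {R : Type*} [CommRing R]

/-- Lower unipotent element of `SL₂`. -/
def lowSL (x : R) : Matrix.SpecialLinearGroup (Fin 2) R :=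
  ⟨!![1, 0; x, 1], by simp [Matrix.det_fin_two]⟩

/-- Upper unipotent element of `SL₂`. -/
def upSL (x : R) : Matrix.SpecialLinearGroup (Fin 2) R :=
  ⟨!![1, x; 0, 1], by simp [Matrix.det_fin_two]⟩

theorem coe_lowSL (x : R) : (lowSL x : Matrix (Fin 2) (Fin 2) R) = !![1, 0; x, 1] := rfl

theorem coe_upSL (x : R) : (upSL x : Matrix (Fin 2) (Fin 2) R) = !![1, x; 0, 1] := rfl

theorem coe_toGL' (g : Matrix.SpecialLinearGroup (Fin 2) R) :
    ((Matrix.SpecialLinearGroup.toGL g : GL (Fin 2) R) : Matrix (Fin 2) (Fin 2) R) = g := rfl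

theorem lowSL_mul (x y : R) : lowSL (x + y) = lowSL x * lowSL y := by
  ext i j; fin_cases i <;> fin_cases j <;> simp [coe_lowSL, Matrix.mul_apply, Fin.sum_univ_two]

theorem upSL_mul (x y : R) : upSL (x + y) = upSL x * upSL y := by
  ext i j; fin_cases i <;> fin_cases j <;> simp [coe_upSL, Matrix.mul_apply, Fin.sum_univ_two, add_comm]

/-- `x ↦ lowSL (c * x)` as a homomorphism into `GL₂`. -/
def lowHom (c : R) : Multiplicative R →* GL (Fin 2) R :=
  MonoidHom.mk' (fun x => Matrix.SpecialLinearGroup.toGL (lowSL (c * x.toAdd))) fun x y => by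
    rw [← map_mul, ← lowSL_mul, toAdd_mul, mul_add]

/-- `x ↦ upSL (c * x)` as a homomorphism into `GL₂`. -/
def upHom (c : R) : Multiplicative R →* GL (Fin 2) R :=
  MonoidHom.mk' (fun x => Matrix.SpecialLinearGroup.toGL (upSL (c * x.toAdd))) fun x y => by
    rw [← map_mul, ← upSL_mul, toAdd_mul, mul_add]

end Ring

variable {F : Type*} [Field F]

theorem low_apply (x : F[X]) (v : Fin 2 → F[X]) :
    mulVecPerm 2 F[X] (lowHom X (ofAdd x)) v = ![v 0, X * x * v 0 + v 1] := by
  funext i
  fin_cases i <;> simp [mulVecPerm_apply, lowHom, coe_toGL', coe_lowSL, Matrix.mulVec, dotProduct, Fin.sum_univ_two]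

theorem up_apply (x : F[X]) (v : Fin 2 → F[X]) :
    mulVecPerm 2 F[X] (upHom X (ofAdd x)) v = ![v 0 + X * x * v 1, v 1] := by
  funext i
  fin_cases i <;> simp [mulVecPerm_apply, upHom, coe_toGL', coe_upSL, Matrix.mulVec, dotProduct, Fin.sum_univ_two]

theorem natDegree_shift (x a : F[X]) : (X * x * a).natDegree ≤ x.natDegree + 1 + a.natDegree := by
  have h1 : (X * x * a).natDegree ≤ (X * x).natDegree + a.natDegree := natDegree_mul_le
  have h2 : (X * x).natDegree ≤ (X : F[X]).natDegree + x.natDegree := natDegree_mul_le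
  simp only [natDegree_X] at h2
  omega

theorem natDegree_shift_eq (x a : F[X]) (hx : x ≠ 0) (ha : a ≠ 0) :
    (X * x * a).natDegree = x.natDegree + 1 + a.natDegree := by
  rw [natDegree_mul (mul_ne_zero X_ne_zero hx) ha, natDegree_mul X_ne_zero hx, natDegree_X]
  ring

theorem dom_shift (x a b : F[X]) (hx : x ≠ 0) (ha : a ≠ 0) (hb : b.natDegree ≤ a.natDegree) :
    a.natDegree < (X * x * a + b).natDegree := by
  have h := natDegree_shift_eq x a hx ha
  rw [natDegree_add_eq_left_of_natDegree_lt (by omega)]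
  omega

/-- In `SL₂` over a large finite field, some substitution of commutators into a non-trivial word gives a value
not commuting with some commutator. -/
theorem sl_two_nonlaw (w : FreeGroup ℕ) (hw : w ≠ 1) :
    ∃ N : ℕ, ∀ (F : Type*) [Field F] [Fintype F], N ≤ Fintype.card F →
      ∃ (a b : ℕ → Matrix.SpecialLinearGroup (Fin 2) F) (c d : Matrix.SpecialLinearGroup (Fin 2) F),
        ¬ Commute (FreeGroup.lift (fun i => ⁅a i, b i⁆) w) ⁅c, d⁆ := by
  obtain ⟨D, hD⟩ := exists_coord w hw
  refine ⟨2 * D + 4, fun F _ _ hF => ?_⟩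
  have hU : Grows (lowHom (X : F[X])) 1 := by
    intro x v M hv j
    have h0 := hv 0
    have h1 := hv 1
    rw [low_apply]
    fin_cases j
    · simp only [Fin.zero_eta, Matrix.cons_val_zero]; omega
    · simp only [Fin.mk_one, Matrix.cons_val_one, Matrix.cons_val_fin_one]
      refine (natDegree_add_le _ _).trans ?_
      have := natDegree_shift x (v 0)
      omega
  have hL : Grows (upHom (X : F[X])) 1 := by
    intro x v M hv j
    have h0 := hv 0
    have h1 := hv 1
    rw [up_apply]
    fin_cases j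
    · simp only [Fin.zero_eta, Matrix.cons_val_zero]
      refine (natDegree_add_le _ _).trans ?_
      have := natDegree_shift x (v 1)
      omega
    · simp only [Fin.mk_one, Matrix.cons_val_one, Matrix.cons_val_fin_one]; omega
  obtain ⟨k, hk0, hkD⟩ := hD F 2 (lowHom X) (upHom X) 1 0 1 (fun _ => 1) (by simp) hU hL
    ⟨⟨by simp, fun j => by simp⟩, ⟨by simp, fun j => by simp⟩⟩
    (fun x hx v hv => by
      rw [low_apply]
      intro j hj
      fin_cases j
      · exact dom_shift x (v 0) (v 1) hx hv.1 (hv.2 1)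
      · exact absurd rfl hj)
    (fun x hx v hv => by
      rw [up_apply]
      intro j hj
      fin_cases j
      · exact absurd rfl hj
      · simp only [Fin.mk_one, Matrix.cons_val_one, Matrix.cons_val_fin_one, Matrix.cons_val_zero]
        rw [add_comm]
        exact dom_shift x (v 1) (v 0) hx hv.1 (hv.2 0))
  set g := FreeGroup.lift (gen (lowHom (X : F[X])) (upHom X)) w with hg
  set z : F[X] := mulVecPerm 2 F[X] g (fun _ => Polynomial.C 1) k with hz
  have hP : z ^ 2 - 1 ≠ 0 := by
    intro h
    have := congrArg natDegree (sub_eq_zero.1 h)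
    rw [natDegree_pow, natDegree_one] at this
    omega
  have hPd : (z ^ 2 - 1).natDegree < Fintype.card F := by
    have h1 : (z ^ 2 - 1).natDegree ≤ max (z ^ 2).natDegree (1 : F[X]).natDegree := natDegree_sub_le _ _
    rw [natDegree_pow, natDegree_one] at h1
    omega
  obtain ⟨t, ht⟩ := exists_eval_ne_zero_of_natDegree_lt_card _ hP (by simpa using hPd)
  obtain ⟨s, hs⟩ := exists_eval_ne_zero_of_natDegree_lt_card ((X : F[X]) * (X ^ 2 - 1))
    (mul_ne_zero X_ne_zero (by
      intro h
      have := congrArg natDegree (sub_eq_zero.1 h)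
      simp [natDegree_one] at this))
    (by
      have h1 : ((X : F[X]) * (X ^ 2 - 1)).natDegree ≤
          (X : F[X]).natDegree + (X ^ 2 - 1 : F[X]).natDegree := natDegree_mul_le
      have h2 : (X ^ 2 - 1 : F[X]).natDegree ≤ max (X ^ 2 : F[X]).natDegree (1 : F[X]).natDegree :=
        natDegree_sub_le _ _
      rw [natDegree_pow, natDegree_one, natDegree_X] at h2
      rw [natDegree_X] at h1
      have : ((X : F[X]) * (X ^ 2 - 1)).natDegree < Fintype.card F := by omega
      simpa using this)
  simp only [eval_mul, eval_X, eval_sub, eval_pow, eval_one, ne_eq, mul_eq_zero, not_or] at hs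
  obtain ⟨hs0, hs1⟩ := hs
  let a : ℕ → Matrix.SpecialLinearGroup (Fin 2) F := fun i => lowSL (t * t ^ i)
  let b : ℕ → Matrix.SpecialLinearGroup (Fin 2) F := fun _ => upSL t
  set h := FreeGroup.lift (fun i => ⁅a i, b i⁆) w with hh
  -- evaluation at `t`
  have hev : Matrix.GeneralLinearGroup.map (evalRingHom t) g = Matrix.SpecialLinearGroup.toGL h := by
    have : (Matrix.GeneralLinearGroup.map (evalRingHom t)).comp
          (FreeGroup.lift (gen (lowHom (X : F[X])) (upHom X)))
        = Matrix.SpecialLinearGroup.toGL.comp (FreeGroup.lift fun i => ⁅a i, b i⁆) := by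
      refine FreeGroup.ext_hom _ _ fun i => ?_
      have e1 : Matrix.GeneralLinearGroup.map (evalRingHom t) (lowHom X (ofAdd (X ^ i)))
          = Matrix.SpecialLinearGroup.toGL (a i) := by
        ext p q; fin_cases p <;> fin_cases q <;> simp [lowHom, coe_toGL', coe_lowSL, a]
      have e2 : Matrix.GeneralLinearGroup.map (evalRingHom t) (upHom X (ofAdd 1))
          = Matrix.SpecialLinearGroup.toGL (b i) := by
        ext p q; fin_cases p <;> fin_cases q <;> simp [upHom, coe_toGL', coe_upSL, b]
      simp only [MonoidHom.comp_apply, FreeGroup.lift_apply_of, gen, map_commutatorElement, e1, e2]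
    exact DFunLike.congr_fun this w
  -- the two commutators used as tests
  by_contra hcon
  simp only [not_exists, not_not] at hcon
  let dg : Matrix.SpecialLinearGroup (Fin 2) F :=
    ⟨!![s⁻¹, 0; 0, s], by simp [Matrix.det_fin_two, hs0]⟩
  have hdg : (dg : Matrix (Fin 2) (Fin 2) F) = !![s⁻¹, 0; 0, s] := rfl
  have hlow : ∀ y : F, ⁅dg, lowSL y⁆ = lowSL ((s ^ 2 - 1) * y) := by
    intro y
    rw [commutatorElement_def, mul_inv_eq_iff_eq_mul, mul_inv_eq_iff_eq_mul]
    ext i j
    fin_cases i <;> fin_cases j <;>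
      simp [hdg, coe_lowSL, Matrix.mul_apply, Fin.sum_univ_two, hs0] <;> field_simp <;> ring
  have hup : ∀ y : F, ⁅dg, upSL y⁆ = upSL ((s⁻¹ ^ 2 - 1) * y) := by
    intro y
    rw [commutatorElement_def, mul_inv_eq_iff_eq_mul, mul_inv_eq_iff_eq_mul]
    ext i j
    fin_cases i <;> fin_cases j <;>
      simp [hdg, coe_upSL, Matrix.mul_apply, Fin.sum_univ_two, hs0] <;> field_simp <;> ring
  have c1 : Commute h (lowSL 1) := by
    have := hcon a b dg (lowSL (s ^ 2 - 1)⁻¹)
    rwa [hlow, mul_inv_cancel₀ hs1] at this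
  have c2 : Commute h (upSL 1) := by
    have hs2 : s⁻¹ ^ 2 - 1 ≠ 0 := by
      intro e
      have e1 : s⁻¹ ^ 2 = 1 := sub_eq_zero.1 e
      rw [inv_pow, inv_eq_one] at e1
      exact hs1 (sub_eq_zero.2 e1)
    have := hcon a b dg (upSL (s⁻¹ ^ 2 - 1)⁻¹)
    rwa [hup, mul_inv_cancel₀ hs2] at this
  have q1 := congrArg (fun x : Matrix.SpecialLinearGroup (Fin 2) F => (x : Matrix (Fin 2) (Fin 2) F) 0 0) c1.eq
  have q2 := congrArg (fun x : Matrix.SpecialLinearGroup (Fin 2) F => (x : Matrix (Fin 2) (Fin 2) F) 1 1) c2.eq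
  have q3 := congrArg (fun x : Matrix.SpecialLinearGroup (Fin 2) F => (x : Matrix (Fin 2) (Fin 2) F) 0 1) c2.eq
  simp [coe_lowSL, coe_upSL, Matrix.mul_apply, Fin.sum_univ_two] at q1 q2 q3
  have hdet : (h : Matrix (Fin 2) (Fin 2) F).det = 1 := h.2
  rw [Matrix.det_fin_two] at hdet
  apply ht
  have hzt : eval t z = ((h : Matrix (Fin 2) (Fin 2) F).mulVec (fun _ => 1)) k := by
    rw [← show ((Matrix.GeneralLinearGroup.map (evalRingHom t) g : GL (Fin 2) F) : Matrix (Fin 2) (Fin 2) F)
        = (h : Matrix (Fin 2) (Fin 2) F) by rw [hev]; rfl]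
    rw [hz, mulVecPerm_apply]
    simp [Matrix.mulVec, dotProduct, eval_finsetSum]
  simp only [eval_sub, eval_pow, eval_one, hzt]
  fin_cases k
  · simp [Matrix.mulVec, dotProduct, Fin.sum_univ_two]
    grind
  · simp [Matrix.mulVec, dotProduct, Fin.sum_univ_two]
    grind

end Cfsg.Agent.WordLaws
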