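/-
Transfer of non-laws to alternating and classical groups: each contains, in a suitable ambient group whose
commutators it absorbs, a copy of `SL₂` of a large field or of a fixed finite group acting by permutations.
-/
import Cfsg.Agent.Lib.WordLaws.SLTwo
import Cfsg.Prelude.Def_Classical
import Cfsg.Prelude.Def_LieClassical

set_option autoImplicit false

namespace Cfsg.Agent.WordLaws

open scoped commutatorElement MatrixGroups Matrix

/-- The word `w` has a substitution by commutators whose value fails to commute with some commutator. -/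
def StrongNonLaw (H : Type*) [Group H] (w : FreeGroup ℕ) : Prop :=
  ∃ (a b : ℕ → H) (c d : H), ¬ Commute (FreeGroup.lift (fun i => ⁅a i, b i⁆) w) ⁅c, d⁆

theorem StrongNonLaw.map {H G : Type*} [Group H] [Group G] {w : FreeGroup ℕ} (h : StrongNonLaw H w)
    (φ : H →* G) (hφ : Function.Injective φ) : StrongNonLaw G w := by
  obtain ⟨a, b, c, d, hab⟩ := h
  refine ⟨fun i => φ (a i), fun i => φ (b i), φ c, φ d, fun hc => hab ?_⟩
  have : FreeGroup.lift (fun i => ⁅φ (a i), φ (b i)⁆) = φ.comp (FreeGroup.lift fun i => ⁅a i, b i⁆) :=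
    FreeGroup.ext_hom _ _ fun i => by simp [map_commutatorElement]
  rw [this, MonoidHom.comp_apply, ← map_commutatorElement] at hc
  exact hφ (by rw [map_mul, map_mul]; exact hc.eq)

/-- A strong non-law in `G` gives a non-law in `T / Z(T)` whenever `T ≤ G` absorbs all commutators. -/
theorem StrongNonLaw.quotient_center {G T : Type*} [Group G] [Group T] {w : FreeGroup ℕ}
    (h : StrongNonLaw G w) (j : T →* G) (hj : ∀ x y : G, ⁅x, y⁆ ∈ j.range) :
    ∃ f : ℕ → T ⧸ Subgroup.center T, FreeGroup.lift f w ≠ 1 := by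
  obtain ⟨a, b, c, d, hab⟩ := h
  choose t ht using hj
  refine ⟨fun i => (t (a i) (b i) : T ⧸ Subgroup.center T), fun h1 => hab ?_⟩
  have e1 : FreeGroup.lift (fun i => (t (a i) (b i) : T ⧸ Subgroup.center T))
      = (QuotientGroup.mk' _).comp (FreeGroup.lift fun i => t (a i) (b i)) :=
    FreeGroup.ext_hom _ _ fun i => by simp
  have e2 : FreeGroup.lift (fun i => ⁅a i, b i⁆) = j.comp (FreeGroup.lift fun i => t (a i) (b i)) :=
    FreeGroup.ext_hom _ _ fun i => by simp [ht]
  rw [e1, MonoidHom.comp_apply, QuotientGroup.mk'_apply, QuotientGroup.eq_one_iff,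
    Subgroup.mem_center_iff] at h1
  rw [e2, MonoidHom.comp_apply, ← ht c d]
  exact Commute.map (show Commute _ (t c d) from (h1 _).symm) j

/-- A non-law in a quotient lifts. -/
theorem exists_nonlaw_of_quotient {T : Type*} [Group T] (N : Subgroup T) [N.Normal] {w : FreeGroup ℕ}
    (h : ∃ f : ℕ → T ⧸ N, FreeGroup.lift f w ≠ 1) : ∃ f : ℕ → T, FreeGroup.lift f w ≠ 1 := by
  obtain ⟨f, hf⟩ := h
  refine ⟨fun i => (f i).out, fun h1 => hf ?_⟩
  have : FreeGroup.lift f = (QuotientGroup.mk' N).comp (FreeGroup.lift fun i => (f i).out) :=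
    FreeGroup.ext_hom _ _ fun i => by simp
  rw [this, MonoidHom.comp_apply, h1, map_one]

/-! ### Homomorphisms -/

variable {F : Type*} [Field F]

/-- Pad a `2 × 2` matrix by an identity block. -/
def padGL (r : ℕ) : GL (Fin 2) F →* GL (Fin (2 + r)) F :=
  MonoidHom.toHomUnits
    { toFun := fun g =>
        Matrix.reindexAlgEquiv F F finSumFinEquiv
          (Matrix.fromBlocks (g : Matrix (Fin 2) (Fin 2) F) 0 0 (1 : Matrix (Fin r) (Fin r) F))
      map_one' := by rw [Units.val_one, Matrix.fromBlocks_one, map_one]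
      map_mul' := fun g h => by rw [← map_mul, Matrix.fromBlocks_multiply]; simp }

theorem padGL_injective (r : ℕ) : Function.Injective (padGL (F := F) r) := by
  intro g h hgh
  have := congrArg (fun x : GL (Fin (2 + r)) F => (x : Matrix (Fin (2 + r)) (Fin (2 + r)) F)) hgh
  simp only [padGL, MonoidHom.coe_toHomUnits, MonoidHom.coe_mk, OneHom.coe_mk] at this
  exact Units.ext (Matrix.fromBlocks_inj.1 ((Matrix.reindexAlgEquiv F F finSumFinEquiv).injective this)).1

/-- Permutation matrices inside `GL_n`. -/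
def permGL (n : ℕ) : Equiv.Perm (Fin n) →* GL (Fin n) F :=
  MonoidHom.toHomUnits Matrix.permMatrixHom

theorem coe_permGL (n : ℕ) (σ : Equiv.Perm (Fin n)) :
    ((permGL n σ : GL (Fin n) F) : Matrix (Fin n) (Fin n) F) = σ⁻¹.permMatrix F := rfl

theorem permGL_injective (n : ℕ) : Function.Injective (permGL (F := F) n) := by
  intro σ τ h
  have h2 := congrArg (fun x : GL (Fin n) F => (x : Matrix (Fin n) (Fin n) F)) h
  simp only [coe_permGL] at h2
  ext i
  have h3 := congrFun (congrFun h2 (σ i)) i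
  by_contra hne
  have : τ.symm (σ i) ≠ i := fun e => hne (congrArg Fin.val ((Equiv.symm_apply_eq τ).1 e))
  simp [Equiv.Perm.permMatrix, PEquiv.toMatrix_apply, this] at h3

/-- The matrix of the Levi element `diag (A, A⁻ᵀ)`. -/
def leviM (m : ℕ) : GL (Fin m) F →* Matrix (Fin m ⊕ Fin m) (Fin m ⊕ Fin m) F where
  toFun A := Matrix.fromBlocks (A : Matrix (Fin m) (Fin m) F) 0 0 ((A⁻¹ : GL (Fin m) F) : Matrix (Fin m) (Fin m) F)ᵀ
  map_one' := by simp
  map_mul' A B := by rw [Matrix.fromBlocks_multiply]; simp [Matrix.transpose_mul]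

theorem leviM_apply (m : ℕ) (A : GL (Fin m) F) :
    leviM m A =
      Matrix.fromBlocks (A : Matrix (Fin m) (Fin m) F) 0 0 ((A⁻¹ : GL (Fin m) F) : Matrix (Fin m) (Fin m) F)ᵀ :=
  rfl

theorem leviM_pairing (m : ℕ) (A : GL (Fin m) F) (v : Fin m ⊕ Fin m → F) :
    ∑ i : Fin m, (leviM m A *ᵥ v) (.inl i) * (leviM m A *ᵥ v) (.inr i)
      = ∑ i : Fin m, v (.inl i) * v (.inr i) := by
  have : ((A : Matrix (Fin m) (Fin m) F) *ᵥ (v ∘ Sum.inl)) ⬝ᵥ
      (((A⁻¹ : GL (Fin m) F) : Matrix (Fin m) (Fin m) F)ᵀ *ᵥ (v ∘ Sum.inr)) = (v ∘ Sum.inl) ⬝ᵥ (v ∘ Sum.inr) := by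
    rw [Matrix.dotProduct_mulVec, Matrix.vecMul_transpose, Matrix.mulVec_mulVec, ← Units.val_mul,
      inv_mul_cancel, Units.val_one, Matrix.one_mulVec]
  simpa [leviM, Matrix.fromBlocks_mulVec, dotProduct] using this

theorem leviM_injective (m : ℕ) : Function.Injective (leviM (F := F) m) := fun A B h =>
  Units.ext (Matrix.fromBlocks_inj.1 h).1

/-- Levi subgroup of the symplectic group. -/
def leviSp (m : ℕ) : GL (Fin m) F →* Matrix.symplecticGroup (Fin m) F :=
  (leviM m).codRestrict _ fun A => by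
    rw [SymplecticGroup.mem_iff, leviM_apply, Matrix.J, Matrix.fromBlocks_transpose,
      Matrix.fromBlocks_multiply, Matrix.fromBlocks_multiply]
    have h1 : (A : Matrix (Fin m) (Fin m) F) * ((A⁻¹ : GL (Fin m) F) : Matrix (Fin m) (Fin m) F) = 1 := by
      rw [← Units.val_mul, mul_inv_cancel, Units.val_one]
    simp [← Matrix.transpose_mul, h1]

theorem leviSp_injective (m : ℕ) : Function.Injective (leviSp (F := F) m) := fun A B h =>
  leviM_injective m (congrArg Subtype.val h)

/-- Levi subgroup of the plus-type orthogonal group. -/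
def leviPlus (m : ℕ) : GL (Fin m) F →* isometryGroup F (quadFormPlus m F) :=
  (MonoidHom.toHomUnits (leviM m)).codRestrict _ fun A u _ => by
    show quadFormPlus m F (leviM m A *ᵥ u) = quadFormPlus m F u
    unfold quadFormPlus
    exact leviM_pairing m A u

theorem leviPlus_injective (m : ℕ) : Function.Injective (leviPlus (F := F) m) := fun A B h =>
  leviM_injective m (congrArg (fun x : isometryGroup F (quadFormPlus m F) =>
    ((x : GL (Fin m ⊕ Fin m) F) : Matrix (Fin m ⊕ Fin m) (Fin m ⊕ Fin m) F)) h)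

/-- The matrix `diag (1, diag (A, A⁻ᵀ))`. -/
def leviOddM (m : ℕ) : GL (Fin m) F →* Matrix (Unit ⊕ (Fin m ⊕ Fin m)) (Unit ⊕ (Fin m ⊕ Fin m)) F where
  toFun A := Matrix.fromBlocks 1 0 0 (leviM m A)
  map_one' := by rw [map_one, Matrix.fromBlocks_one]
  map_mul' A B := by rw [Matrix.fromBlocks_multiply, map_mul]; simp

/-- Levi subgroup of the odd-dimensional orthogonal group. -/
def leviOdd (m : ℕ) : GL (Fin m) F →* isometryGroup F (quadFormOdd m F) :=
  (MonoidHom.toHomUnits (leviOddM m)).codRestrict _ fun A u _ => by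
    show quadFormOdd m F ((Matrix.fromBlocks 1 0 0 (leviM m A)) *ᵥ u) = quadFormOdd m F u
    simpa [quadFormOdd, Matrix.fromBlocks_mulVec] using leviM_pairing m A (u ∘ Sum.inr)

theorem leviOdd_injective (m : ℕ) : Function.Injective (leviOdd (F := F) m) := fun A B h =>
  leviM_injective m (Matrix.fromBlocks_inj.1
    (congrArg (fun x : isometryGroup F (quadFormOdd m F) =>
      ((x : GL (Unit ⊕ (Fin m ⊕ Fin m)) F) : Matrix (Unit ⊕ (Fin m ⊕ Fin m)) (Unit ⊕ (Fin m ⊕ Fin m)) F)) h)).2.2.2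

/-- The matrix `diag (diag (A, A⁻ᵀ), 1)`. -/
def leviMinusM (m : ℕ) :
    GL (Fin m) F →* Matrix ((Fin m ⊕ Fin m) ⊕ Fin 2) ((Fin m ⊕ Fin m) ⊕ Fin 2) F where
  toFun A := Matrix.fromBlocks (leviM m A) 0 0 1
  map_one' := by rw [map_one, Matrix.fromBlocks_one]
  map_mul' A B := by rw [Matrix.fromBlocks_multiply, map_mul]; simp

/-- Levi subgroup of the minus-type orthogonal group. -/
def leviMinus (m : ℕ) (a b : F) : GL (Fin m) F →* isometryGroup F (quadFormMinus m F a b) :=
  (MonoidHom.toHomUnits (leviMinusM m)).codRestrict _ fun A u _ => by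
    show quadFormMinus m F a b ((Matrix.fromBlocks (leviM m A) 0 0 1) *ᵥ u) = quadFormMinus m F a b u
    simpa [quadFormMinus, Matrix.fromBlocks_mulVec] using leviM_pairing m A (u ∘ Sum.inl)

theorem leviMinus_injective (m : ℕ) (a b : F) : Function.Injective (leviMinus m a b) := fun A B h =>
  leviM_injective m (Matrix.fromBlocks_inj.1
    (congrArg (fun x : isometryGroup F (quadFormMinus m F a b) =>
      ((x : GL ((Fin m ⊕ Fin m) ⊕ Fin 2) F) :
        Matrix ((Fin m ⊕ Fin m) ⊕ Fin 2) ((Fin m ⊕ Fin m) ⊕ Fin 2) F)) h)).1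

/-- Permutation matrices lie in the unitary group. -/
def permGU (n q : ℕ) : Equiv.Perm (Fin n) →* GU n F q :=
  (permGL n).codRestrict _ fun σ u v => by
    show hermForm n F q ((σ⁻¹.permMatrix F) *ᵥ u) ((σ⁻¹.permMatrix F) *ᵥ v) = hermForm n F q u v
    simp only [hermForm, Matrix.permMatrix_mulVec, Function.comp_apply]
    exact Equiv.sum_comp σ⁻¹ (fun i => u i * v i ^ q)

theorem permGU_injective (n q : ℕ) : Function.Injective (permGU (F := F) n q) := fun _ _ h =>
  permGL_injective n (congrArg Subtype.val h)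

/-- Padding preserves the unitary group. -/
def padGU (r q : ℕ) : GU 2 F q →* GU (2 + r) F q :=
  ((padGL r).comp (GU 2 F q).subtype).codRestrict _ fun g u v => by
    have hg := g.2 (fun i => u (finSumFinEquiv (.inl i))) (fun i => v (finSumFinEquiv (.inl i)))
    have key : ∀ (x : Fin (2 + r) → F) (k : Fin 2 ⊕ Fin r),
        ((((padGL r).comp (GU 2 F q).subtype) g : GL (Fin (2 + r)) F) : Matrix (Fin (2 + r)) (Fin (2 + r)) F).mulVec x
            (finSumFinEquiv k)
          = Sum.elim ((((g : GL (Fin 2) F) : Matrix (Fin 2) (Fin 2) F)).mulVec (fun i => x (finSumFinEquiv (.inl i))))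
              (fun i => x (finSumFinEquiv (.inr i))) k := by
      intro x k
      simp only [padGL, MonoidHom.comp_apply, Subgroup.coe_subtype, MonoidHom.coe_toHomUnits,
        MonoidHom.coe_mk, OneHom.coe_mk, Matrix.reindexAlgEquiv_apply, Matrix.reindex_apply,
        Matrix.submatrix_mulVec_equiv, Function.comp_apply, Equiv.symm_apply_apply, Equiv.symm_symm,
        Matrix.fromBlocks_mulVec]
      cases k <;> simp [Function.comp_def]
    simp only [hermForm, Units.coeHom_apply]
    rw [← Equiv.sum_comp finSumFinEquiv, ← Equiv.sum_comp finSumFinEquiv, Fintype.sum_sum_type,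
      Fintype.sum_sum_type]
    simp only [key, Sum.elim_inl, Sum.elim_inr]
    simp only [hermForm, Units.coeHom_apply] at hg
    rw [hg]

theorem padGU_injective (r q : ℕ) : Function.Injective (padGU (F := F) r q) := fun _ _ h =>
  Subtype.ext (padGL_injective r (congrArg Subtype.val h))

/-- `SL₂` of the fixed field of `x ↦ x ^ q` embeds in the two-dimensional unitary group. -/
theorem exists_slTwo_GU {q : ℕ} [Fintype F] (hF : Fintype.card F = q ^ 2) :
    ∃ K : Subfield F, (∃ φ : Matrix.SpecialLinearGroup (Fin 2) K →* GU 2 F q, Function.Injective φ) ∧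
      q - 1 ≤ Nat.card K := by
  classical
  obtain ⟨p, hp⟩ := CharP.exists F
  haveI := hp
  obtain ⟨n, hpp, hn⟩ := FiniteField.card F p
  haveI : Fact p.Prime := ⟨hpp⟩
  obtain ⟨k, hk⟩ : ∃ k, q = p ^ k := by
    have h2 : q ∣ p ^ (n : ℕ) := by rw [← hn, hF]; exact dvd_pow_self q two_ne_zero
    obtain ⟨k, -, hk⟩ := (Nat.dvd_prime_pow hpp).1 h2
    exact ⟨k, hk⟩
  have hq : 2 ≤ q := by
    have h1 := Fintype.one_lt_card (α := F)
    rw [hF] at h1
    nlinarith
  let σ : F →+* F := iterateFrobenius F p k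
  have hσ : ∀ x, σ x = x ^ q := fun x => by rw [hk]; rfl
  have hqq : ∀ x : F, (x ^ q) ^ q = x := fun x => by
    rw [← pow_mul, ← sq, ← hF, FiniteField.pow_card]
  obtain ⟨g, hg⟩ := IsCyclic.exists_generator (α := Fˣ)
  have hord : orderOf g = (q + 1) * (q - 1) := by
    rw [orderOf_eq_card_of_forall_mem_zpowers hg, Nat.card_eq_fintype_card, Fintype.card_units, hF,
      ← Nat.sq_sub_sq, one_pow]
  let K : Subfield F := RingHom.eqLocusField σ (RingHom.id F)
  have hK : ∀ x : F, x ∈ K ↔ x ^ q = x := fun x => by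
    show σ x = x ↔ _
    rw [hσ]
  have hgK : ∀ i : ℕ, (((g ^ ((q + 1) * i) : Fˣ)) : F) ∈ K := by
    intro i
    rw [hK, ← Units.val_pow_eq_pow_val]
    congr 1
    rw [← pow_mul, pow_eq_pow_iff_modEq, hord]
    obtain ⟨j, rfl⟩ : ∃ j, q = j + 1 := ⟨q - 1, by omega⟩
    rw [Nat.add_sub_cancel, show (j + 1 + 1) * i * (j + 1) = (j + 1 + 1) * i + (j + 1 + 1) * j * i by ring]
    calc (j + 1 + 1) * i + (j + 1 + 1) * j * i ≡ (j + 1 + 1) * i + 0 [MOD (j + 1 + 1) * j] :=
          Nat.ModEq.add_left _ (Nat.modEq_zero_iff_dvd.2 (Dvd.intro i rfl))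
      _ = _ := by ring
  refine ⟨K, ?_, ?_⟩
  swap
  · have hinj : Function.Injective (fun i : Fin (q - 1) => (⟨_, hgK i⟩ : K)) := by
      intro i j h
      have h1 : g ^ ((q + 1) * (i : ℕ)) = g ^ ((q + 1) * (j : ℕ)) := Units.ext (congrArg Subtype.val h)
      have h2 : (q + 1) * (i : ℕ) < orderOf g := by rw [hord]; exact Nat.mul_lt_mul_of_pos_left i.2 (by omega)
      have h3 : (q + 1) * (j : ℕ) < orderOf g := by rw [hord]; exact Nat.mul_lt_mul_of_pos_left j.2 (by omega)
      exact Fin.ext (Nat.eq_of_mul_eq_mul_left (by omega) (pow_injOn_Iio_orderOf h2 h3 h1))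
    simpa using Nat.card_le_card_of_injective _ hinj
  -- parameters
  obtain ⟨μ, hμ, hμ1⟩ : ∃ μ : F, μ ^ (q + 1) = 1 ∧ μ ≠ 1 := by
    refine ⟨((g ^ (q - 1) : Fˣ) : F), ?_, ?_⟩
    · rw [← Units.val_pow_eq_pow_val, ← pow_mul, mul_comm, ← hord, pow_orderOf_eq_one, Units.val_one]
    · rw [← Units.val_one]
      intro h
      have h1 := pow_injOn_Iio_orderOf (x := g) (x₁ := q - 1) (x₂ := 0) (by
        show q - 1 < orderOf g
        rw [hord]
        exact lt_mul_of_one_lt_left (by omega) (by omega)) (orderOf_pos g) (by simpa using Units.ext h)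
      omega
  obtain ⟨ζ, ε, hζ, hε0, hε⟩ : ∃ ζ ε : F, ζ ^ (q + 1) = -1 ∧ ε ≠ 0 ∧ ε ^ q = -ε := by
    rcases Nat.even_or_odd q with he | ho
    · have h2 : (-1 : F) = 1 := by
        have : p = 2 := by
          have hk0 : k ≠ 0 := by rintro rfl; simp at hk; omega
          rw [hk, Nat.even_pow] at he
          exact (hpp.even_iff).1 he.1
        subst this
        exact CharTwo.neg_eq 1
      exact ⟨1, 1, by simp [h2], one_ne_zero, by simp [h2]⟩
    · obtain ⟨j, rfl⟩ := ho
      have hneg : ((g ^ ((2 * j + 2) * j) : Fˣ) : F) = -1 := by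
        have hsq : ((g ^ ((2 * j + 2) * j) : Fˣ) : F) * ((g ^ ((2 * j + 2) * j) : Fˣ) : F) = 1 := by
          rw [← Units.val_mul, ← pow_add, show (2 * j + 2) * j + (2 * j + 2) * j = (2 * j + 1 + 1) * (2 * j + 1 - 1) by
            rw [Nat.add_sub_cancel]; ring, ← hord, pow_orderOf_eq_one, Units.val_one]
        rcases mul_self_eq_one_iff.1 hsq with h | h
        · exfalso
          rw [← Units.val_one] at h
          have hlt : (2 * j + 2) * j < orderOf g := by
            rw [hord, Nat.add_sub_cancel]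
            have : 1 ≤ j := by omega
            nlinarith
          have h1 := pow_injOn_Iio_orderOf (x := g) (x₁ := (2 * j + 2) * j) (x₂ := 0) hlt
            (orderOf_pos g) (by simpa using Units.ext h)
          rcases Nat.mul_eq_zero.1 h1 with h2 | h2 <;> omega
        · exact h
      refine ⟨((g ^ j : Fˣ) : F), ((g ^ (j + 1) : Fˣ) : F), ?_, Units.ne_zero _, ?_⟩
      · rw [← Units.val_pow_eq_pow_val, ← pow_mul, show j * (2 * j + 1 + 1) = (2 * j + 2) * j by ring, hneg]
      · rw [← Units.val_pow_eq_pow_val, ← pow_mul,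
          show (j + 1) * (2 * j + 1) = (2 * j + 2) * j + (j + 1) by ring, pow_add, Units.val_mul, hneg, neg_one_mul]
  set h := 1 - μ ^ q with hh
  have hh0 : h ≠ 0 := by
    rw [hh, sub_ne_zero]
    intro e
    apply hμ1
    rw [← hqq μ, ← e, one_pow]
  have hhq : h ^ q = 1 - μ := by
    rw [← hσ, hh, map_sub, map_one, hσ, hqq]
  have hζζ : ζ * ζ ^ q = -1 := by rw [← pow_succ', hζ]
  have hμμ : μ * μ ^ q = 1 := by rw [← pow_succ', hμ]
  have hζ0 : ζ ≠ 0 := by rintro rfl; simp at hζ
  set c := h * ε with hc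
  have hc0 : c ≠ 0 := mul_ne_zero hh0 hε0
  have hcq : c ^ q = -((1 - μ) * ε) := by rw [hc, mul_pow, hε, hhq]; ring
  let P : Matrix (Fin 2) (Fin 2) F := !![1, c; ζ, c * (ζ * μ)]
  have hPdet : IsUnit P.det := by
    rw [isUnit_iff_ne_zero, Matrix.det_fin_two_of]
    have : (1 : F) * (c * (ζ * μ)) - c * ζ = c * ζ * (μ - 1) := by ring
    rw [this]
    exact mul_ne_zero (mul_ne_zero hc0 hζ0) (sub_ne_zero.2 hμ1)
  let PU : GL (Fin 2) F := Matrix.nonsingInvUnit P hPdet
  have hherm : ∀ x y : Fin 2 → F, hermForm 2 F q (P *ᵥ x) (P *ᵥ y)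
      = (-((1 - μ) * ε)) * h * (x 0 * y 1 ^ q - x 1 * y 0 ^ q) := by
    intro x y
    simp only [hermForm, ← hσ, Fin.sum_univ_two]
    simp [P, Matrix.mulVec, dotProduct, Fin.sum_univ_two]
    simp only [hσ]
    rw [hh]
    rw [hh] at hc
    linear_combination (-(h * 0)) * hζζ + (x 0 + c * μ * x 1) * (y 0 ^ q + c ^ q * μ ^ q * y 1 ^ q) * hζζ
      - c * c ^ q * x 1 * y 1 ^ q * hμμ + (1 - μ ^ q) * x 0 * y 1 ^ q * hcq
      + (1 - μ) * x 1 * y 0 ^ q * hc
  let ι : Matrix.SpecialLinearGroup (Fin 2) K →* GL (Fin 2) F :=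
    Matrix.SpecialLinearGroup.toGL.comp (Matrix.SpecialLinearGroup.map K.subtype)
  refine ⟨((MulAut.conj PU).toMonoidHom.comp ι).codRestrict _ ?_, ?_⟩
  · intro M u v
    have hu : u = P *ᵥ (P⁻¹ *ᵥ u) := by
      rw [Matrix.mulVec_mulVec, Matrix.mul_nonsing_inv _ hPdet, Matrix.one_mulVec]
    have hv : v = P *ᵥ (P⁻¹ *ᵥ v) := by
      rw [Matrix.mulVec_mulVec, Matrix.mul_nonsing_inv _ hPdet, Matrix.one_mulVec]
    have hM : ∀ x : Fin 2 → F,
        ((MulAut.conj PU).toMonoidHom.comp ι M : Matrix (Fin 2) (Fin 2) F) *ᵥ (P *ᵥ x)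
          = P *ᵥ ((M : Matrix (Fin 2) (Fin 2) K).map K.subtype *ᵥ x) := by
      intro x
      simp only [MonoidHom.comp_apply, MulEquiv.coe_toMonoidHom, MulAut.conj_apply, Units.val_mul,
        Matrix.mulVec_mulVec, Matrix.mul_assoc]
      have : ((PU⁻¹ : GL (Fin 2) F) : Matrix (Fin 2) (Fin 2) F) * P = 1 := by
        rw [show ((PU⁻¹ : GL (Fin 2) F) : Matrix (Fin 2) (Fin 2) F) * P
          = ((PU⁻¹ * PU : GL (Fin 2) F) : Matrix (Fin 2) (Fin 2) F) from rfl, inv_mul_cancel, Units.val_one]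
      rw [this, Matrix.mul_one]
      rfl
    simp only [Units.coeHom_apply]
    conv_rhs => rw [hu, hv]
    rw [hu, hv, hM, hM, hherm, hherm, ← hu, ← hv]
    have hfix : ∀ i j, ((M : Matrix (Fin 2) (Fin 2) K).map K.subtype i j) ^ q
        = (M : Matrix (Fin 2) (Fin 2) K).map K.subtype i j := fun i j => (hK _).1 ((M : Matrix (Fin 2) (Fin 2) K) i j).2
    have hdet : ((M : Matrix (Fin 2) (Fin 2) K).map K.subtype).det = 1 := by
      rw [← RingHom.mapMatrix_apply, ← RingHom.map_det, M.2, map_one]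
    rw [Matrix.det_fin_two] at hdet
    generalize (M : Matrix (Fin 2) (Fin 2) K).map K.subtype = A at hfix hdet
    generalize P⁻¹ *ᵥ u = x
    generalize P⁻¹ *ᵥ v = y
    congr 1
    simp only [Matrix.mulVec, dotProduct, Fin.sum_univ_two, ← hσ, map_add, map_mul]
    simp only [hσ, hfix]
    linear_combination (x 0 * y 1 ^ q - x 1 * y 0 ^ q) * hdet
  · intro M N h
    have h2 : ι M = ι N := (MulAut.conj PU).injective (congrArg Subtype.val h)
    have h3 := Matrix.SpecialLinearGroup.toGL_injective h2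
    ext i j
    exact congrArg (fun x : Matrix.SpecialLinearGroup (Fin 2) F => (x : Matrix (Fin 2) (Fin 2) F) i j) h3

/-- Commutators of `GL` have determinant one. -/
theorem det_commutator {n : ℕ} (x y : GL (Fin n) F) :
    ((⁅x, y⁆ : GL (Fin n) F) : Matrix (Fin n) (Fin n) F).det = 1 := by
  rw [← Matrix.GeneralLinearGroup.val_det_apply, map_commutatorElement, commutatorElement_eq_one_iff_mul_comm.2
    (mul_comm _ _), Units.val_one]

end Cfsg.Agent.WordLaws
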