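/-
A finite group with a strong non-law, acting by permutations, gives non-laws in large alternating groups.
-/
import Cfsg.Agent.Lib.WordLaws.Classical

set_option autoImplicit false

namespace Cfsg.Agent.WordLaws

open scoped commutatorElement

/-- Permutation groups of large degree have strong non-laws. -/
theorem perm_strongNonLaw (w : FreeGroup ℕ) (hw : w ≠ 1) :
    ∃ D : ℕ, ∀ n : ℕ, D ≤ n → StrongNonLaw (Equiv.Perm (Fin n)) w := by
  obtain ⟨N, hN⟩ := sl_two_nonlaw.{0} w hw
  obtain ⟨p, hp, hpp⟩ := Nat.exists_infinite_primes N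
  haveI : Fact p.Prime := ⟨hpp⟩
  let H := Matrix.SpecialLinearGroup (Fin 2) (ZMod p)
  refine ⟨Fintype.card H, fun n hn => ?_⟩
  obtain ⟨e⟩ : Nonempty (H ↪ Fin n) :=
    Function.Embedding.nonempty_of_card_le (by simpa using hn)
  refine (show StrongNonLaw H w from hN (ZMod p) (by simpa using hp)).map
    ((Equiv.Perm.viaEmbeddingHom e).comp (MulAction.toPermHom H H)) ?_
  exact (Equiv.Perm.viaEmbeddingHom_injective e).comp MulAction.toPerm_injective

/-- Alternating groups of large degree have non-laws modulo their centre. -/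
theorem alt_nonlaw (w : FreeGroup ℕ) (n : ℕ) (h : StrongNonLaw (Equiv.Perm (Fin n)) w) :
    ∃ f : ℕ → alternatingGroup (Fin n) ⧸ Subgroup.center (alternatingGroup (Fin n)),
      FreeGroup.lift f w ≠ 1 :=
  h.quotient_center (alternatingGroup (Fin n)).subtype fun x y =>
    ⟨⟨⁅x, y⁆, by rw [Equiv.Perm.mem_alternatingGroup, map_commutatorElement, commutatorElement_eq_one_iff_mul_comm]; exact mul_comm _ _⟩, rfl⟩

end Cfsg.Agent.WordLaws
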