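/-
Non-laws in the Suzuki groups, by ping-pong between the centres of two opposite Sylow 2-subgroups.
-/
import Cfsg.Agent.Lib.WordLaws.PingPong
import Cfsg.Prelude.Def_Sz

set_option autoImplicit false

namespace Cfsg.Agent.WordLaws

open Multiplicative Polynomial
open scoped commutatorElement

section Ring

variable {R : Type*} [CommRing R] [CharP R 2]

/-- The lower central unipotent matrix with entries `x` and `x ^ e`. -/
def szLowM (e : ℕ) (x : R) : Matrix (Fin 4) (Fin 4) R :=
  !![1, 0, 0, 0; 0, 1, 0, 0; x, 0, 1, 0; x ^ e, x, 0, 1]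

/-- The upper central unipotent matrix with entries `x` and `x ^ e`. -/
def szUpM (e : ℕ) (x : R) : Matrix (Fin 4) (Fin 4) R :=
  !![1, 0, x, x ^ e; 0, 1, 0, x; 0, 0, 1, 0; 0, 0, 0, 1]

theorem szLowM_mul (k : ℕ) (x y : R) : szLowM (2 ^ k) (x + y) = szLowM (2 ^ k) x * szLowM (2 ^ k) y := by
  have h : (x + y) ^ 2 ^ k = x ^ 2 ^ k + y ^ 2 ^ k := add_pow_char_pow x y 2 k
  ext i j
  fin_cases i <;> fin_cases j <;> simp [szLowM, Matrix.mul_apply, Fin.sum_univ_four, h]

theorem szUpM_mul (k : ℕ) (x y : R) : szUpM (2 ^ k) (x + y) = szUpM (2 ^ k) x * szUpM (2 ^ k) y := by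
  have h : (x + y) ^ 2 ^ k = x ^ 2 ^ k + y ^ 2 ^ k := add_pow_char_pow x y 2 k
  ext i j
  fin_cases i <;> fin_cases j <;> simp [szUpM, Matrix.mul_apply, Fin.sum_univ_four, h, add_comm]

theorem szLowM_zero (k : ℕ) : szLowM (2 ^ k) (0 : R) = 1 := by
  ext i j; fin_cases i <;> fin_cases j <;> simp [szLowM]

theorem szUpM_zero (k : ℕ) : szUpM (2 ^ k) (0 : R) = 1 := by
  ext i j; fin_cases i <;> fin_cases j <;> simp [szUpM]

/-- `x ↦ szLowM (2^k) (c * x)` as a homomorphism into `GL₄`. -/
def szLowHom (k : ℕ) (c : R) : Multiplicative R →* GL (Fin 4) R :=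
  MonoidHom.toHomUnits
    { toFun := fun x => szLowM (2 ^ k) (c * x.toAdd)
      map_one' := by simp [szLowM_zero]
      map_mul' := fun x y => by rw [toAdd_mul, mul_add, szLowM_mul] }

/-- `x ↦ szUpM (2^k) (c * x)` as a homomorphism into `GL₄`. -/
def szUpHom (k : ℕ) (c : R) : Multiplicative R →* GL (Fin 4) R :=
  MonoidHom.toHomUnits
    { toFun := fun x => szUpM (2 ^ k) (c * x.toAdd)
      map_one' := by simp [szUpM_zero]
      map_mul' := fun x y => by rw [toAdd_mul, mul_add, szUpM_mul] }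

theorem coe_szLowHom (k : ℕ) (c x : R) :
    ((szLowHom k c (ofAdd x) : GL (Fin 4) R) : Matrix (Fin 4) (Fin 4) R) = szLowM (2 ^ k) (c * x) := rfl

theorem coe_szUpHom (k : ℕ) (c x : R) :
    ((szUpHom k c (ofAdd x) : GL (Fin 4) R) : Matrix (Fin 4) (Fin 4) R) = szUpM (2 ^ k) (c * x) := rfl

end Ring

section Field

variable {F : Type*} [Field F] [CharP F 2]

theorem szLow_mem (k : ℕ) (t : F) (ht : t ^ (2 ^ k * 2 ^ k) = t ^ 2) :
    szLowHom k 1 (ofAdd t) ∈ Lie.Sz F (2 ^ k) := by
  apply Subgroup.subset_closure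
  refine ⟨?_, ?_⟩
  · intro u v
    simp only [Units.coeHom_apply, coe_szLowHom, one_mul]
    simp [Lie.altForm4, szLowM, Matrix.mulVec, dotProduct, Fin.sum_univ_four]
    grind [CharTwo.add_self_eq_zero]
  · rw [coe_szLowHom, one_mul]
    have h2 : (t ^ 2 ^ k) ^ 2 ^ k = t ^ 2 := by rw [← pow_mul, ht]
    have h0 : (0 : F) ^ 2 ^ k = 0 := zero_pow (by positivity)
    ext i j
    fin_cases i <;> fin_cases j <;>
      simp [Lie.star4, Lie.pairOf, szLowM, h2, h0] <;> grind [CharTwo.add_self_eq_zero, CharTwo.neg_eq]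

theorem szUp_mem (k : ℕ) (t : F) (ht : t ^ (2 ^ k * 2 ^ k) = t ^ 2) :
    szUpHom k 1 (ofAdd t) ∈ Lie.Sz F (2 ^ k) := by
  apply Subgroup.subset_closure
  refine ⟨?_, ?_⟩
  · intro u v
    simp only [Units.coeHom_apply, coe_szUpHom, one_mul]
    simp [Lie.altForm4, szUpM, Matrix.mulVec, dotProduct, Fin.sum_univ_four]
    grind [CharTwo.add_self_eq_zero]
  · rw [coe_szUpHom, one_mul]
    have h2 : (t ^ 2 ^ k) ^ 2 ^ k = t ^ 2 := by rw [← pow_mul, ht]
    have h0 : (0 : F) ^ 2 ^ k = 0 := zero_pow (by positivity)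
    ext i j
    fin_cases i <;> fin_cases j <;>
      simp [Lie.star4, Lie.pairOf, szUpM, h2, h0] <;> grind [CharTwo.add_self_eq_zero, CharTwo.neg_eq]

theorem szLow_apply (k : ℕ) (x : F[X]) (v : Fin 4 → F[X]) :
    mulVecPerm 4 F[X] (szLowHom k X (ofAdd x)) v =
      ![v 0, v 1, v 2 + X * x * v 0, v 3 + (X * x) ^ 2 ^ k * v 0 + X * x * v 1] := by
  funext i
  rw [mulVecPerm_apply, coe_szLowHom]
  fin_cases i <;> simp [szLowM, Matrix.mulVec, dotProduct, Fin.sum_univ_four] <;> ring

theorem szUp_apply (k : ℕ) (x : F[X]) (v : Fin 4 → F[X]) :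
    mulVecPerm 4 F[X] (szUpHom k X (ofAdd x)) v =
      ![v 0 + (X * x) ^ 2 ^ k * v 3 + X * x * v 2, v 1 + X * x * v 3, v 2, v 3] := by
  funext i
  rw [mulVecPerm_apply, coe_szUpHom]
  fin_cases i <;> simp [szUpM, Matrix.mulVec, dotProduct, Fin.sum_univ_four] <;> ring

theorem sz_deg_bound (e : ℕ) (he : 1 ≤ e) (x a b c : F[X]) (M : ℕ)
    (ha : a.natDegree ≤ M) (hb : b.natDegree ≤ M) (hc : c.natDegree ≤ M) :
    (c + (X * x) ^ e * a + X * x * b).natDegree ≤ M + e * (x.natDegree + 1) ∧
      (c + X * x * a).natDegree ≤ M + e * (x.natDegree + 1) := by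
  have h1 : (X * x).natDegree ≤ x.natDegree + 1 := by
    refine natDegree_mul_le.trans ?_
    simp [natDegree_X, add_comm]
  have h2 : ((X * x) ^ e).natDegree ≤ e * (x.natDegree + 1) :=
    natDegree_pow_le.trans (Nat.mul_le_mul_left e h1)
  have h3 : 1 * (x.natDegree + 1) ≤ e * (x.natDegree + 1) := Nat.mul_le_mul_right _ he
  have h4 : ((X * x) ^ e * a).natDegree ≤ ((X * x) ^ e).natDegree + a.natDegree := natDegree_mul_le
  have h5 : (X * x * b).natDegree ≤ (X * x).natDegree + b.natDegree := natDegree_mul_le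
  have h6 : (X * x * a).natDegree ≤ (X * x).natDegree + a.natDegree := natDegree_mul_le
  refine ⟨(natDegree_add_le _ _).trans (max_le ((natDegree_add_le _ _).trans (max_le ?_ ?_)) ?_),
    (natDegree_add_le _ _).trans (max_le ?_ ?_)⟩ <;> omega

theorem sz_dom (e : ℕ) (he : 2 ≤ e) (x a b c : F[X]) (hx : x ≠ 0) (ha : a ≠ 0)
    (hb : b.natDegree ≤ a.natDegree) (hc : c.natDegree ≤ a.natDegree) :
    (a.natDegree < (c + (X * x) ^ e * a + X * x * b).natDegree) ∧
      (c + X * x * a).natDegree < (c + (X * x) ^ e * a + X * x * b).natDegree := by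
  have hd : (X * x).natDegree = x.natDegree + 1 := by
    rw [natDegree_mul X_ne_zero hx, natDegree_X, add_comm]
  have hp : ((X * x) ^ e * a).natDegree = e * (x.natDegree + 1) + a.natDegree := by
    rw [natDegree_mul (pow_ne_zero _ (mul_ne_zero X_ne_zero hx)) ha, natDegree_pow, hd]
  have h3 : 2 * (x.natDegree + 1) ≤ e * (x.natDegree + 1) := Nat.mul_le_mul_right _ he
  have h5 : (X * x * b).natDegree ≤ (X * x).natDegree + b.natDegree := natDegree_mul_le
  have h6 : (X * x * a).natDegree ≤ (X * x).natDegree + a.natDegree := natDegree_mul_le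
  have h7 : (c + (X * x) ^ e * a).natDegree = ((X * x) ^ e * a).natDegree :=
    natDegree_add_eq_right_of_natDegree_lt (by omega)
  have h8 : (c + (X * x) ^ e * a + X * x * b).natDegree = (c + (X * x) ^ e * a).natDegree :=
    natDegree_add_eq_left_of_natDegree_lt (by omega)
  have h9 : (c + X * x * a).natDegree ≤ max c.natDegree (X * x * a).natDegree := natDegree_add_le _ _
  omega

end Field

/-- A non-trivial word is not a law in large Suzuki groups. -/
theorem sz_nonlaw (w : FreeGroup ℕ) (hw : w ≠ 1) :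
    ∃ N : ℕ, ∀ (F : Type*) [Field F] [Fintype F] (m : ℕ), N ≤ m → Fintype.card F = 2 ^ (2 * m + 1) →
      ∃ f : ℕ → ↥(Lie.Sz F (2 ^ (m + 1))), FreeGroup.lift f w ≠ 1 := by
  obtain ⟨D, hD⟩ := exists_coord w hw
  refine ⟨D + 1, fun F _ _ m hm hcard => ?_⟩
  have hchar : CharP F 2 := by
    obtain ⟨p, hp⟩ := CharP.exists F
    haveI := hp
    obtain ⟨n, hpp, hn⟩ := FiniteField.card F p
    have hdvd : p ∣ 2 ^ (2 * m + 1) := by
      rw [← hcard, hn]; exact dvd_pow_self _ n.ne_zero
    have : p = 2 := (Nat.prime_dvd_prime_iff_eq hpp Nat.prime_two).1 (hpp.dvd_of_dvd_pow hdvd)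
    exact this ▸ hp
  set k := m + 1 with hk
  have he : 2 ≤ 2 ^ k := by
    calc 2 = 2 ^ 1 := rfl
      _ ≤ 2 ^ k := Nat.pow_le_pow_right (by norm_num) (by omega)
  have hU : Grows (szLowHom k (X : F[X])) (2 ^ k) := by
    intro x v M hv j
    rw [szLow_apply]
    have hb := sz_deg_bound (2 ^ k) (by omega) x (v 0) (v 1) (v 3) M (hv 0) (hv 1) (hv 3)
    have hb' := sz_deg_bound (2 ^ k) (by omega) x (v 0) (v 1) (v 2) M (hv 0) (hv 1) (hv 2)
    fin_cases j
    · simpa using (hv 0).trans (Nat.le_add_right _ _)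
    · simpa using (hv 1).trans (Nat.le_add_right _ _)
    · simpa using hb'.2
    · simpa using hb.1
  have hL : Grows (szUpHom k (X : F[X])) (2 ^ k) := by
    intro x v M hv j
    rw [szUp_apply]
    have hb := sz_deg_bound (2 ^ k) (by omega) x (v 3) (v 2) (v 0) M (hv 3) (hv 2) (hv 0)
    have hb' := sz_deg_bound (2 ^ k) (by omega) x (v 3) (v 2) (v 1) M (hv 3) (hv 2) (hv 1)
    fin_cases j
    · simpa using hb.1
    · simpa using hb'.2
    · simpa using (hv 2).trans (Nat.le_add_right _ _)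
    · simpa using (hv 3).trans (Nat.le_add_right _ _)
  obtain ⟨c, hc0, hcD⟩ := hD F 4 (szLowHom k X) (szUpHom k X) (2 ^ k) 0 3 ![1, 0, 0, 1]
    (by decide) hU hL
    ⟨⟨by simp, fun j => by fin_cases j <;> simp⟩, ⟨by simp, fun j => by fin_cases j <;> simp⟩⟩
    (fun x hx v hv => by
      rw [szLow_apply]
      have hA := sz_dom (2 ^ k) he x (v 0) (v 1) (v 3) hx hv.1 (hv.2 1) (hv.2 3)
      intro j hj
      fin_cases j
      · simpa using hA.1
      · simpa using lt_of_le_of_lt (hv.2 1) hA.1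
      · have hB : (v 2 + X * x * v 0).natDegree ≤ (X * x).natDegree + (v 0).natDegree := by
          refine (natDegree_add_le _ _).trans (max_le ((hv.2 2).trans (Nat.le_add_left _ _)) ?_)
          exact natDegree_mul_le
        have hd : (X * x).natDegree = x.natDegree + 1 := by
          rw [natDegree_mul X_ne_zero hx, natDegree_X, add_comm]
        have hp : ((X * x) ^ 2 ^ k * v 0).natDegree = 2 ^ k * (x.natDegree + 1) + (v 0).natDegree := by
          rw [natDegree_mul (pow_ne_zero _ (mul_ne_zero X_ne_zero hx)) hv.1, natDegree_pow, hd]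
        have h3 : 2 * (x.natDegree + 1) ≤ 2 ^ k * (x.natDegree + 1) := Nat.mul_le_mul_right _ he
        have h5 : (X * x * v 1).natDegree ≤ (X * x).natDegree + (v 1).natDegree := natDegree_mul_le
        have := hv.2 3
        have := hv.2 1
        have h7 : (v 3 + (X * x) ^ 2 ^ k * v 0 + X * x * v 1).natDegree
            = ((X * x) ^ 2 ^ k * v 0).natDegree := by
          rw [natDegree_add_eq_left_of_natDegree_lt, natDegree_add_eq_right_of_natDegree_lt (by omega)]
          rw [natDegree_add_eq_right_of_natDegree_lt (by omega)]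
          omega
        simp
        omega
      · exact absurd rfl hj)
    (fun x hx v hv => by
      rw [szUp_apply]
      have hA := sz_dom (2 ^ k) he x (v 3) (v 2) (v 0) hx hv.1 (hv.2 2) (hv.2 0)
      intro j hj
      fin_cases j
      · exact absurd rfl hj
      · have hB : (v 1 + X * x * v 3).natDegree ≤ (X * x).natDegree + (v 3).natDegree := by
          refine (natDegree_add_le _ _).trans (max_le ((hv.2 1).trans (Nat.le_add_left _ _)) ?_)
          exact natDegree_mul_le
        have hd : (X * x).natDegree = x.natDegree + 1 := by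
          rw [natDegree_mul X_ne_zero hx, natDegree_X, add_comm]
        have hp : ((X * x) ^ 2 ^ k * v 3).natDegree = 2 ^ k * (x.natDegree + 1) + (v 3).natDegree := by
          rw [natDegree_mul (pow_ne_zero _ (mul_ne_zero X_ne_zero hx)) hv.1, natDegree_pow, hd]
        have h3 : 2 * (x.natDegree + 1) ≤ 2 ^ k * (x.natDegree + 1) := Nat.mul_le_mul_right _ he
        have h5 : (X * x * v 2).natDegree ≤ (X * x).natDegree + (v 2).natDegree := natDegree_mul_le
        have := hv.2 0
        have := hv.2 2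
        have h7 : (v 0 + (X * x) ^ 2 ^ k * v 3 + X * x * v 2).natDegree
            = ((X * x) ^ 2 ^ k * v 3).natDegree := by
          rw [natDegree_add_eq_left_of_natDegree_lt, natDegree_add_eq_right_of_natDegree_lt (by omega)]
          rw [natDegree_add_eq_right_of_natDegree_lt (by omega)]
          omega
        simp
        omega
      · simpa using lt_of_le_of_lt (hv.2 2) hA.1
      · simpa using hA.1)
  set g := FreeGroup.lift (gen (szLowHom k (X : F[X])) (szUpHom k X)) w with hg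
  set v0 : Fin 4 → F := ![1, 0, 0, 1] with hv0
  set z : F[X] := mulVecPerm 4 F[X] g (fun j => Polynomial.C (v0 j)) c with hz
  have hP : z - Polynomial.C (v0 c) ≠ 0 := by
    intro h
    have := congrArg natDegree (sub_eq_zero.1 h)
    rw [natDegree_C] at this
    omega
  have hPd : (z - Polynomial.C (v0 c)).natDegree < Fintype.card F := by
    rw [natDegree_sub_C, hcard]
    refine lt_of_le_of_lt hcD ?_
    have h1 : D < 2 ^ m := lt_of_lt_of_le (by omega) (Nat.lt_two_pow_self).le
    calc D * 2 ^ k < 2 ^ m * 2 ^ k := Nat.mul_lt_mul_of_pos_right h1 (by positivity)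
      _ = 2 ^ (2 * m + 1) := by rw [← pow_add]; congr 1; omega
  obtain ⟨t, ht⟩ := exists_eval_ne_zero_of_natDegree_lt_card _ hP (by simpa using hPd)
  have hfrob : ∀ y : F, y ^ (2 ^ k * 2 ^ k) = y ^ 2 := by
    intro y
    have : 2 ^ k * 2 ^ k = Fintype.card F * 2 := by
      rw [hcard, ← pow_add, ← pow_succ]; congr 1; omega
    rw [this, pow_mul, FiniteField.pow_card]
  let U : F → ↥(Lie.Sz F (2 ^ k)) := fun y => ⟨_, szLow_mem k y (hfrob y)⟩
  let L : F → ↥(Lie.Sz F (2 ^ k)) := fun y => ⟨_, szUp_mem k y (hfrob y)⟩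
  refine ⟨fun i => ⁅U (t * t ^ i), L t⁆, fun h1 => ht ?_⟩
  have hev : Matrix.GeneralLinearGroup.map (evalRingHom t) g
      = (Lie.Sz F (2 ^ k)).subtype (FreeGroup.lift (fun i => ⁅U (t * t ^ i), L t⁆) w) := by
    have : (Matrix.GeneralLinearGroup.map (evalRingHom t)).comp
          (FreeGroup.lift (gen (szLowHom k (X : F[X])) (szUpHom k X)))
        = (Lie.Sz F (2 ^ k)).subtype.comp (FreeGroup.lift fun i => ⁅U (t * t ^ i), L t⁆) := by
      refine FreeGroup.ext_hom _ _ fun i => ?_
      have e1 : Matrix.GeneralLinearGroup.map (evalRingHom t) (szLowHom k X (ofAdd (X ^ i)))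
          = (Lie.Sz F (2 ^ k)).subtype (U (t * t ^ i)) := by
        ext p q; fin_cases p <;> fin_cases q <;> simp [U, coe_szLowHom, szLowM]
      have e2 : Matrix.GeneralLinearGroup.map (evalRingHom t) (szUpHom k X (ofAdd 1))
          = (Lie.Sz F (2 ^ k)).subtype (L t) := by
        ext p q; fin_cases p <;> fin_cases q <;> simp [L, coe_szUpHom, szUpM]
      simp only [MonoidHom.comp_apply, FreeGroup.lift_apply_of, gen, map_commutatorElement, e1, e2]
    exact DFunLike.congr_fun this w
  rw [h1, map_one] at hev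
  have hzt : eval t z = ((Matrix.GeneralLinearGroup.map (evalRingHom t) g : GL (Fin 4) F) :
      Matrix (Fin 4) (Fin 4) F).mulVec v0 c := by
    rw [hz, mulVecPerm_apply]
    simp [Matrix.mulVec, dotProduct, eval_finsetSum]
  rw [hev] at hzt
  simp [hzt]

end Cfsg.Agent.WordLaws
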